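import Cfsg.Agent.Chev.InvolF4Data

/-!
Part 1 of the check of the certificate for the involutions of `F₄(q)`, `q` even.
-/

set_option autoImplicit false

namespace CfsgLib.Chev.InvolReduce

theorem nodesF4_ok_1 :
    (List.range' 400 200).all (chkNode F4Data.tab repsF4 nodesF4) = true := by
  decide +kernel

end CfsgLib.Chev.InvolReduce
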